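import Groth.Agent.L19.QCohFpqc.Effective
import Groth.Agent.L17.FlatPair.Flat
import Groth.Agent.L05.Prufer.Sheaf
import Groth.Agent.L20.ModStalk
import Mathlib.RingTheory.Flat.FaithfullyFlat.Algebra

/-!
# Finite presentation and flatness over the base descend along fpqc covers
-/

set_option autoImplicit false
set_option linter.style.haveILetI false
set_option backward.isDefEq.respectTransparency false
set_option backward.isDefEq.respectTransparency.types false

universe u

open CategoryTheory CategoryTheory.Limits AlgebraicGeometry TopologicalSpace Opposite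
open scoped TensorProduct

noncomputable section

namespace Groth.L09.ModStack

open Groth.L27.Assoc (Mo θ R)
open Groth.L19.QCohFpqc (IsCov Ref exists_ref)

section Algebra

variable {A : Type u} [CommRing A] {κ : Type*} (B : κ → Type u) [∀ l, CommRing (B l)]
  [∀ l, Algebra A (B l)] [∀ l, Module.Flat A (B l)] [Finite κ]
  (hB : ∀ p : PrimeSpectrum A, ∃ l, p ∈ Set.range (PrimeSpectrum.comap (algebraMap A (B l))))

include hB in
/-- Finiteness descends along a finite jointly faithfully flat family. -/
theorem finite_of_family (N : Type u) [AddCommGroup N] [Module A N]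
    [h : ∀ l, Module.Finite (B l) (B l ⊗[A] N)] : Module.Finite A N := by
  classical
  have hgen : ∀ l, ∀ z : B l ⊗[A] N, ∃ P : Submodule A N, P.FG ∧
      z ∈ LinearMap.range (P.subtype.baseChange (B l)) := by
    intro l z
    induction z using TensorProduct.induction_on with
    | zero => exact ⟨⊥, Submodule.fg_bot, zero_mem _⟩
    | tmul b n =>
      exact ⟨_, Submodule.fg_span_singleton n, ⟨b ⊗ₜ ⟨n, Submodule.mem_span_singleton_self n⟩, rfl⟩⟩
    | add z z' hz hz' =>
      obtain ⟨P, hP, x, rfl⟩ := hz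
      obtain ⟨P', hP', x', rfl⟩ := hz'
      refine ⟨P ⊔ P', hP.sup hP', (Submodule.inclusion le_sup_left).baseChange (B l) x +
        (Submodule.inclusion le_sup_right).baseChange (B l) x', ?_⟩
      rw [map_add, ← LinearMap.comp_apply, ← LinearMap.comp_apply, ← LinearMap.baseChange_comp,
        ← LinearMap.baseChange_comp]
      rfl
  choose P hP hzP using hgen
  choose s hs using fun l => Module.Finite.fg_top (R := B l) (M := B l ⊗[A] N)
  haveI : Fintype κ := Fintype.ofFinite κ
  let Q : Submodule A N := Finset.univ.sup fun l => (s l).sup fun z => P l z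
  have hQfg : Q.FG := Finset.sup_induction Submodule.fg_bot (fun _ h₁ _ h₂ => h₁.sup h₂) fun l _ =>
    Finset.sup_induction Submodule.fg_bot (fun _ h₁ _ h₂ => h₁.sup h₂) fun z _ => hP l z
  have hsurj : ∀ l, LinearMap.range (Q.subtype.baseChange (B l)) = ⊤ := fun l => by
    rw [eq_top_iff, ← hs l, Submodule.span_le]
    intro z hz
    obtain ⟨x, hx⟩ := hzP l z
    have hle : P l z ≤ Q := le_trans (Finset.le_sup (f := fun z => P l z) hz)
      (Finset.le_sup (f := fun l => (s l).sup fun z => P l z) (Finset.mem_univ l))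
    refine ⟨(Submodule.inclusion hle).baseChange (B l) x, ?_⟩
    rw [← LinearMap.comp_apply, ← LinearMap.baseChange_comp]
    exact hx
  have htop : Q = ⊤ := by
    rw [Submodule.eq_top_iff']
    intro n
    rw [← Submodule.Quotient.mk_eq_zero Q]
    refine Groth.L19.QCohFpqc.eq_zero_of_forall B hB _ fun l => ?_
    obtain ⟨x, hx⟩ := (hsurj l).ge (Submodule.mem_top (x := (1 : B l) ⊗ₜ[A] n))
    have h0 : (Q.mkQ.baseChange (B l)) (Q.subtype.baseChange (B l) x) = 0 := by
      rw [← LinearMap.comp_apply, ← LinearMap.baseChange_comp,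
        LinearMap.range_le_ker_iff.1 (le_of_eq (by simp)), LinearMap.baseChange_zero, LinearMap.zero_apply]
    rw [hx] at h0
    exact h0
  exact ⟨htop ▸ hQfg⟩

include hB in
/-- Finite presentation descends along a finite jointly faithfully flat family. -/
theorem finitePresentation_of_family (N : Type u) [AddCommGroup N] [Module A N]
    [h : ∀ l, Module.FinitePresentation (B l) (B l ⊗[A] N)] : Module.FinitePresentation A N := by
  haveI := finite_of_family B hB N
  obtain ⟨n, p, hp⟩ := Module.Finite.exists_fin' A N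
  suffices Module.Finite A (LinearMap.ker p) from
    Module.finitePresentation_of_surjective p hp (Module.Finite.iff_fg.1 this)
  haveI : ∀ l, Module.Finite (B l) (B l ⊗[A] LinearMap.ker p) := fun l => by
    have hex : Function.Exact (LinearMap.ker p).subtype p := LinearMap.exact_subtype_ker_map p
    have hs : Function.Surjective (p.baseChange (B l)) := LinearMap.lTensor_surjective (B l) hp
    have hfg := Module.FinitePresentation.fg_ker (p.baseChange (B l)) hs
    have hr : LinearMap.range ((LinearMap.ker p).subtype.baseChange (B l)) = LinearMap.ker (p.baseChange (B l)) := by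
      ext z
      exact (lTensor_exact (B l) hex hp z).symm
    haveI : Module.Finite (B l) (LinearMap.range ((LinearMap.ker p).subtype.baseChange (B l))) :=
      Module.Finite.iff_fg.2 (hr ▸ hfg)
    have hinj : Function.Injective ((LinearMap.ker p).subtype.baseChange (B l)) :=
      Module.Flat.lTensor_preserves_injective_linearMap (M := B l) _ Subtype.val_injective
    exact Module.Finite.equiv (LinearEquiv.ofInjective _ hinj).symm
  exact finite_of_family B hB (LinearMap.ker p)

end Algebra

section FP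

variable {ι : Type u} {Y : Scheme.{u}} {Z : ι → Scheme.{u}} {g : ∀ i, Z i ⟶ Y}

/-- Finite presentation of modules descends along fpqc covers. -/
theorem isFP_descent (hg : Presieve.ofArrows Z g ∈ Scheme.fpqcPrecoverage Y) (M : Y.Modules) [Coh.IsQCoh M]
    (h : ∀ i, CohB1.IsFP (Mo M (g i))) : CohB1.IsFP M := by
  refine Groth.L05.Prufer.isFP_of_sections M fun x => ?_
  obtain ⟨V, hV, hxV, -⟩ := exists_isAffineOpen_mem_and_subset (x := x) (U := (⊤ : Y.Opens)) trivial
  refine ⟨V, hV, hxV, ?_⟩
  obtain ⟨Rf⟩ := exists_ref g hg hV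
  have hfl := Groth.L19.flat_of_mem_fpqc hg
  letI : ∀ l, Algebra Γ(Y, V) Γ(Z (Rf.idx l), Rf.W l) := fun l =>
    ((g (Rf.idx l)).appLE V (Rf.W l) (Rf.le l)).hom.toAlgebra
  haveI : ∀ l, Module.Flat Γ(Y, V) Γ(Z (Rf.idx l), Rf.W l) := fun l =>
    haveI := hfl (Rf.idx l)
    (g (Rf.idx l)).flat_appLE hV (Rf.aff l) (Rf.le l)
  haveI : ∀ l, Module.FinitePresentation Γ(Z (Rf.idx l), Rf.W l)
      (Γ(Z (Rf.idx l), Rf.W l) ⊗[Γ(Y, V)] Γ(M, V)) := fun l => by
    letI := Module.compHom Γ(Mo M (g (Rf.idx l)), Rf.W l) ((g (Rf.idx l)).appLE V (Rf.W l) (Rf.le l)).hom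
    haveI : IsScalarTower Γ(Y, V) Γ(Z (Rf.idx l), Rf.W l) Γ(Mo M (g (Rf.idx l)), Rf.W l) :=
      IsScalarTower.of_algebraMap_smul fun _ _ => rfl
    haveI := Groth.L20.ModStalk.finitePresentation_sections _ (h (Rf.idx l)) (Rf.aff l)
    exact Module.FinitePresentation.of_equiv
      (Groth.L16.AffineBC.isBaseChange_pull (g (Rf.idx l)) M hV (Rf.aff l) (Rf.le l)).equiv.symm
  refine finitePresentation_of_family (fun l => Γ(Z (Rf.idx l), Rf.W l)) (fun p => ?_) _
  obtain ⟨l, w, hw, e⟩ := Rf.surj (hV.fromSpec p) (by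
    rw [← SetLike.mem_coe, ← IsAffineOpen.range_fromSpec hV]; exact ⟨p, rfl⟩)
  refine ⟨l, (Rf.aff l).primeIdealOf ⟨w, hw⟩, hV.fromSpec.isOpenEmbedding.injective ?_⟩
  show hV.fromSpec (Spec.map ((g (Rf.idx l)).appLE V (Rf.W l) (Rf.le l)) ((Rf.aff l).primeIdealOf ⟨w, hw⟩)) = _
  rw [← Scheme.Hom.comp_apply, hV.SpecMap_appLE_fromSpec (g (Rf.idx l)) (Rf.aff l) (Rf.le l),
    Scheme.Hom.comp_apply, (Rf.aff l).fromSpec_primeIdealOf]
  exact e

end FP

section Flat

/-- Flatness over the base descends along faithfully flat extensions of the ring acting on the module. -/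
theorem flat_of_faithfullyFlat {R A B M : Type u} [CommRing R] [CommRing A] [CommRing B] [Algebra R A]
    [Algebra A B] [Algebra R B] [IsScalarTower R A B] [Module.FaithfullyFlat A B] [AddCommGroup M] [Module A M] [Module R M] [IsScalarTower R A M]
    [Module.Flat R (B ⊗[A] M)] : Module.Flat R M := by
  rw [Module.Flat.iff_lTensor_preserves_injective_linearMap]
  intro N P _ _ _ _ φ hφ
  let k : M ⊗[R] N →ₗ[A] M ⊗[R] P := TensorProduct.AlgebraTensorModule.lTensor A M φ
  suffices Function.Injective k from this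
  rw [← Module.FaithfullyFlat.lTensor_injective_iff_injective A B k]
  let eN := TensorProduct.AlgebraTensorModule.assoc R A A B M N
  let eP := TensorProduct.AlgebraTensorModule.assoc R A A B M P
  have he : ∀ z, k.lTensor B (eN z) = eP (φ.lTensor (B ⊗[A] M) z) := fun z => by
    induction z using TensorProduct.induction_on with
    | zero => simp
    | tmul y n =>
      induction y using TensorProduct.induction_on with
      | zero => simp
      | tmul b m => rfl
      | add y y' hy hy' => simp only [TensorProduct.add_tmul, map_add, hy, hy']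
    | add z z' hz hz' => simp only [map_add, hz, hz']
  intro a a' haa
  obtain ⟨z, rfl⟩ := eN.surjective a
  obtain ⟨z', rfl⟩ := eN.surjective a'
  rw [he, he] at haa
  exact congrArg eN (Module.Flat.lTensor_preserves_injective_linearMap φ hφ (eP.injective haa))

variable {X S X' S' : Scheme.{u}} {f : X ⟶ S} {f' : X' ⟶ S'} {j : X' ⟶ X} {i : S' ⟶ S}

/-- Flatness over the base at a point descends along flat squares. -/
theorem isFlatOverAt_of_flat [Flat i] [Flat j] (w : j ≫ f = f' ≫ i) (M : X.Modules) (x' : X')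
    (h : FlatMod.IsFlatOverAt f' ((Scheme.Modules.pullback j).obj M) x') :
    FlatMod.IsFlatOverAt f M (j x') := by
  have hfx : f (j x') = i (f' x') := by
    rw [← Scheme.Hom.comp_apply, w, Scheme.Hom.comp_apply]
  obtain ⟨_, ⟨W, hW, rfl⟩, hxW, -⟩ := S.isBasis_affineOpens.exists_subset_of_mem_open
    (Set.mem_univ (f (j x'))) isOpen_univ
  change S.Opens at W
  replace hW : IsAffineOpen W := hW
  obtain ⟨_, ⟨W', hW', rfl⟩, hxW', hW'i⟩ := S'.isBasis_affineOpens.exists_subset_of_mem_open
    (show f' x' ∈ i ⁻¹ᵁ W from show i (f' x') ∈ W from hfx ▸ hxW) (i ⁻¹ᵁ W).2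
  change S'.Opens at W'
  replace hW' : IsAffineOpen W' := hW'
  let V : X.Opens := f ⁻¹ᵁ W
  let U : X'.Opens := j ⁻¹ᵁ V ⊓ f' ⁻¹ᵁ W'
  have hxV : j x' ∈ V := hxW
  have hxU : x' ∈ U := ⟨hxV, hxW'⟩
  rw [Groth.L20.ModStalk.isFlatOverAt_iff_sections f M hW (le_refl V) hxV]
  rw [Groth.L20.ModStalk.isFlatOverAt_iff_sections f' _ hW' (show U ≤ f' ⁻¹ᵁ W' from inf_le_right) hxU] at h
  let R := Γ(S, W)
  let R' := Γ(S', W')
  let O := X.presheaf.stalk (j x')
  let O' := X'.presheaf.stalk x'
  let χ' : R' →+* O' := (X'.presheaf.germ U x' hxU).hom.comp (f'.appLE W' U inf_le_right).hom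
  let χ : R →+* O := (X.presheaf.germ V (j x') hxV).hom.comp (f.appLE W V le_rfl).hom
  letI : Algebra R R' := (i.appLE W W' hW'i).hom.toAlgebra
  let N := ((Scheme.Modules.pullback j).obj M).presheaf.stalk x'
  letI : Module R' N := Module.compHom N χ'
  letI : Module R N := Module.compHom N (χ'.comp (algebraMap R R'))
  haveI : IsScalarTower R R' N := IsScalarTower.of_algebraMap_smul fun _ _ => rfl
  haveI : Module.Flat R R' := i.flat_appLE hW hW' hW'i
  haveI : Module.Flat R' N := h
  haveI : Module.Flat R N := Module.Flat.trans R R' N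
  letI : Algebra O O' := (Groth.L00.PullStalk.φ j x').toAlgebra
  haveI : Module.Flat O O' := AlgebraicGeometry.Flat.stalkMap j x'
  haveI : IsLocalHom (algebraMap O O') := inferInstanceAs (IsLocalHom (j.stalkMap x').hom)
  haveI : Module.FaithfullyFlat O O' := Module.FaithfullyFlat.of_flat_of_isLocalHom
  letI : Algebra R O := χ.toAlgebra
  letI : Module R (M.presheaf.stalk (j x')) := Module.compHom _ χ
  haveI : IsScalarTower R O (M.presheaf.stalk (j x')) := IsScalarTower.of_algebraMap_smul fun _ _ => rfl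
  letI : Algebra R O' := ((Groth.L00.PullStalk.φ j x').comp χ).toAlgebra
  haveI : IsScalarTower R O O' := IsScalarTower.of_algebraMap_eq fun _ => rfl
  let e : N ≃ₗ[O'] O' ⊗[O] M.presheaf.stalk (j x') :=
    ((Groth.L00.PullStalk.stalkIso j x').app M).toLinearEquiv
  have key : ∀ r : R, (Groth.L00.PullStalk.φ j x') (χ r) = χ' (algebraMap R R' r) := fun r => by
    show (j.stalkMap x').hom (X.presheaf.germ V (j x') hxV (f.appLE W V le_rfl r)) =
      X'.presheaf.germ U x' hxU (f'.appLE W' U inf_le_right (i.appLE W W' hW'i r))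
    rw [Groth.L20.ModStalk.stalkMap_germ (inf_le_left : U ≤ j ⁻¹ᵁ V) hxU hxV,
      ← ConcreteCategory.comp_apply (f.appLE W V le_rfl), ← ConcreteCategory.comp_apply (i.appLE W W' hW'i),
      Scheme.Hom.appLE_comp_appLE, Scheme.Hom.appLE_comp_appLE]
    congr 3
    simp only [w]
    rfl
  haveI : Module.Flat R (O' ⊗[O] M.presheaf.stalk (j x')) := Module.Flat.of_linearEquiv
    ({ e.toAddEquiv.symm with
      map_smul' := fun r m => by
        show e.symm (r • m) = χ' (algebraMap R R' r) • e.symm m
        rw [← key r, ← map_smul e.symm, ← algebraMap_smul O r m, ← algebraMap_smul O' (algebraMap R O r) m]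
        rfl } : O' ⊗[O] M.presheaf.stalk (j x') ≃ₗ[R] N)
  exact flat_of_faithfullyFlat (A := O) (B := O')

/-- Flatness over the base descends along fpqc covers of the source compatible with flat maps of bases. -/
theorem isFlatOver_descent {κ : Type u} {Z : κ → Scheme.{u}} {W : κ → Scheme.{u}} {h : ∀ k, Z k ⟶ X}
    {q : ∀ k, Z k ⟶ W k} {g : ∀ k, W k ⟶ S} (hcov : Presieve.ofArrows Z h ∈ Scheme.fpqcPrecoverage X)
    (hg : ∀ k, Flat (g k)) (w : ∀ k, h k ≫ f = q k ≫ g k) (M : X.Modules)
    (hM : ∀ k, FlatMod.IsFlatOver (q k) (Mo M (h k))) : FlatMod.IsFlatOver f M := by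
  intro x
  obtain ⟨V, hV, hxV, -⟩ := exists_isAffineOpen_mem_and_subset (x := x) (U := (⊤ : X.Opens)) trivial
  obtain ⟨Rf⟩ := exists_ref h hcov hV
  obtain ⟨l, z, -, rfl⟩ := Rf.surj x hxV
  haveI := hg (Rf.idx l)
  haveI := Groth.L19.flat_of_mem_fpqc hcov (Rf.idx l)
  exact isFlatOverAt_of_flat (w (Rf.idx l)) M z (hM (Rf.idx l) z)

end Flat

end Groth.L09.ModStack
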