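import Groth.Agent.L09.ModStack.Kap
import Groth.Agent.L09.StackBG.Crit
import Groth.Agent.L09.StackBG.Torsor

/-!
# Functors from sieves to categories of modules on base changes
-/

set_option autoImplicit false
set_option backward.isDefEq.respectTransparency false
set_option backward.isDefEq.respectTransparency.types false

universe u

open CategoryTheory CategoryTheory.Limits AlgebraicGeometry

noncomputable section

namespace Groth.L09.ModStack

open Groth.L27.Assoc (Mo θ)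

/-- A family sitting over an fpqc covering family by cartesian squares is an fpqc covering family. -/
theorem mem_fpqc_of_squares {κ : Type u} {Y B : Scheme.{u}} {Z W W' : κ → Scheme.{u}} {Q : Y ⟶ B}
    {h : ∀ k, Z k ⟶ Y} {q : ∀ k, Z k ⟶ W' k} (e : ∀ k, W' k ⟶ W k) [∀ k, IsIso (e k)] {g : ∀ k, W k ⟶ B}
    (hg : Presieve.ofArrows W g ∈ Scheme.fpqcPrecoverage B)
    (hsq : ∀ k, IsPullback (h k) (q k) Q (e k ≫ g k)) :
    Presieve.ofArrows Z h ∈ Scheme.fpqcPrecoverage Y :=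
  Precoverage.mem_coverings_of_isPullback g hg Q h (fun k => q k ≫ e k) fun k =>
    (hsq k).of_iso (Iso.refl _) (Iso.refl _) (asIso (e k)) (Iso.refl _) (by simp) (by simp) (by simp) (by simp)

theorem fppf_le_fpqc (S : Scheme.{u}) :
    QuotSh.J Scheme.fppfPrecoverage S ≤ Groth.L09.StackBG.Jq S := fun U R hR => by
  rw [GrothendieckTopology.mem_over_iff] at hR ⊢
  exact Precoverage.toGrothendieck_mono Scheme.fppfPrecoverage_le_fpqcPrecoverage _ hR

variable {X S : Scheme.{u}} {f : X ⟶ S} {P : ModSt.Obj f → Prop} {U : Over S} {R : Sieve U}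

section

variable (Γ : Stk.sieveCat R ⥤ᵇ AlgSt.fullSub (ModSt.Fam f) P)

/-- The value at an object of the sieve. -/
abbrev A (a : (Stk.sieveCat R).obj) : ModSt.Obj f := (Γ.obj a).obj

/-- The image of a morphism of the sieve. -/
abbrev mp {a b : (Stk.sieveCat R).obj} (φ : a ⟶ b) : A Γ a ⟶ A Γ b := (Γ.map φ).hom

/-- The identification of bases. -/
abbrev eb (a : (Stk.sieveCat R).obj) : (A Γ a).base ⟶ a.obj.left := eqToHom (Γ.w_obj a)

/-- The structure map of the base. -/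
abbrev β (a : (Stk.sieveCat R).obj) : (A Γ a).base ⟶ U := eb Γ a ≫ a.obj.hom

theorem mp_eb {a b : (Stk.sieveCat R).obj} (φ : a ⟶ b) :
    (mp Γ φ).base ≫ eb Γ b = eb Γ a ≫ φ.hom.left :=
  Groth.L09.StackBG.sieveMap_base Γ φ

theorem mp_β {a b : (Stk.sieveCat R).obj} (φ : a ⟶ b) : (mp Γ φ).base ≫ β Γ b = β Γ a := by
  rw [β, ← Category.assoc, mp_eb, Category.assoc, Over.w φ.hom]

theorem mp_comp {a b c : (Stk.sieveCat R).obj} (φ : a ⟶ b) (ψ : b ⟶ c) : mp Γ (φ ≫ ψ) = mp Γ φ ≫ mp Γ ψ :=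
  congrArg InducedCategory.Hom.hom (Γ.toFunctor.map_comp φ ψ)

/-- The map of total spaces to the base change over `U`. -/
def u_ (a : (Stk.sieveCat R).obj) : (A Γ a).XT ⟶ pullback f U.hom :=
  pullback.lift (A Γ a).p ((A Γ a).q ≫ (β Γ a).left) (by rw [Category.assoc, Over.w, (A Γ a).isPullback.w])

@[reassoc (attr := simp)]
theorem u_fst (a : (Stk.sieveCat R).obj) : u_ Γ a ≫ pullback.fst f U.hom = (A Γ a).p := pullback.lift_fst _ _ _

@[reassoc (attr := simp)]
theorem u_snd (a : (Stk.sieveCat R).obj) :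
    u_ Γ a ≫ pullback.snd f U.hom = (A Γ a).q ≫ (β Γ a).left := pullback.lift_snd _ _ _

theorem isPullback_u (a : (Stk.sieveCat R).obj) :
    IsPullback (u_ Γ a) (A Γ a).q (pullback.snd f U.hom) (β Γ a).left := by
  refine IsPullback.of_right ?_ (u_snd Γ a) (IsPullback.of_hasPullback f U.hom)
  rw [u_fst, Over.w]
  exact (A Γ a).isPullback

@[reassoc]
theorem top_u {a b : (Stk.sieveCat R).obj} (φ : a ⟶ b) : (mp Γ φ).top ≫ u_ Γ b = u_ Γ a := by
  refine pullback.hom_ext ?_ ?_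
  · rw [Category.assoc, u_fst, u_fst, (mp Γ φ).w_p]
  · rw [Category.assoc, u_snd, u_snd, reassoc_of% (mp Γ φ).w_q, ← Over.comp_left, mp_β]

/-- The underlying map to a sieve object of a point of its total space. -/
def pt {T : Scheme.{u}} (c : (Stk.sieveCat R).obj) (l : T ⟶ (A Γ c).XT) : T ⟶ c.obj.left.left :=
  l ≫ (A Γ c).q ≫ (eb Γ c).left

theorem pt_hom {T : Scheme.{u}} (c : (Stk.sieveCat R).obj) (l : T ⟶ (A Γ c).XT) :
    pt Γ c l ≫ c.obj.hom.left = (l ≫ u_ Γ c) ≫ pullback.snd f U.hom := by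
  rw [Category.assoc, u_snd, pt, β, Over.comp_left]
  simp only [Category.assoc]

theorem pt_top {T : Scheme.{u}} {c d : (Stk.sieveCat R).obj} (m : c ⟶ d) (l : T ⟶ (A Γ c).XT) :
    pt Γ d (l ≫ (mp Γ m).top) = pt Γ c l ≫ m.hom.left.left := by
  have h := congrArg CommaMorphism.left (mp_eb Γ m)
  simp only [Over.comp_left] at h
  simp only [pt, Category.assoc]
  rw [reassoc_of% (mp Γ m).w_q, h]

variable {T : Scheme.{u}} (q : T ⟶ pullback f U.hom)

/-- The base of the sieve object of a point. -/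
abbrev qU : Over.mk ((q ≫ pullback.snd f U.hom) ≫ U.hom) ⟶ U := Over.homMk (q ≫ pullback.snd f U.hom)

/-- The map of bases from the sieve object of a point. -/
def ptHom (c : (Stk.sieveCat R).obj) (l : T ⟶ (A Γ c).XT) (h : l ≫ u_ Γ c = q) :
    Over.mk ((q ≫ pullback.snd f U.hom) ≫ U.hom) ⟶ c.obj.left :=
  Over.homMk (pt Γ c l) (by
    rw [← Over.w c.obj.hom, ← Category.assoc, pt_hom, h]
    rfl)

theorem ptHom_hom (c : (Stk.sieveCat R).obj) (l : T ⟶ (A Γ c).XT) (h : l ≫ u_ Γ c = q) :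
    ptHom Γ q c l h ≫ c.obj.hom = qU q := by
  ext
  show pt Γ c l ≫ c.obj.hom.left = _
  rw [pt_hom, h]
  rfl

include Γ in
theorem mem_of_point (c : (Stk.sieveCat R).obj) (l : T ⟶ (A Γ c).XT) (h : l ≫ u_ Γ c = q) : R (qU q) := by
  rw [← ptHom_hom Γ q c l h]
  exact R.downward_closed c.property _

variable (hq : R (qU q))

/-- The sieve object of a point. -/
abbrev cq : (Stk.sieveCat R).obj := ⟨Over.mk (qU q), hq⟩

/-- The morphism from the sieve object of a point. -/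
def dTo (c : (Stk.sieveCat R).obj) (l : T ⟶ (A Γ c).XT) (h : l ≫ u_ Γ c = q) : cq q hq ⟶ c :=
  ObjectProperty.homMk (Over.homMk (ptHom Γ q c l h) (ptHom_hom Γ q c l h))

/-- The tautological point. -/
def lq : T ⟶ (A Γ (cq q hq)).XT :=
  (A Γ (cq q hq)).isPullback.lift (q ≫ pullback.fst f U.hom)
    (eqToHom (Γ.w_obj (cq q hq)).symm : (cq q hq).obj.left ⟶ (A Γ (cq q hq)).base).left (by
      rw [Category.assoc, pullback.condition, Over.w, ← Category.assoc]
      rfl)

theorem lq_pt : pt Γ (cq q hq) (lq Γ q hq) = 𝟙 T := by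
  have h := (A Γ (cq q hq)).isPullback.lift_snd (q ≫ pullback.fst f U.hom)
    (eqToHom (Γ.w_obj (cq q hq)).symm : (cq q hq).obj.left ⟶ (A Γ (cq q hq)).base).left
  rw [pt, lq, ← Category.assoc, h, ← Over.comp_left, eb, eqToHom_trans, eqToHom_refl]
  rfl

theorem lq_u : lq Γ q hq ≫ u_ Γ (cq q hq) = q := by
  refine pullback.hom_ext ?_ ?_
  · rw [Category.assoc, u_fst]
    exact IsPullback.lift_fst _ _ _ _
  · rw [← pt_hom, lq_pt, Category.id_comp]
    rfl

theorem lq_top (c : (Stk.sieveCat R).obj) (l : T ⟶ (A Γ c).XT) (h : l ≫ u_ Γ c = q) :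
    lq Γ q hq ≫ (mp Γ (dTo Γ q hq c l h)).top = l := by
  refine (isPullback_u Γ c).hom_ext ?_ ?_
  · rw [Category.assoc, top_u, lq_u, h]
  · rw [← cancel_mono (eb Γ c).left, Category.assoc, Category.assoc]
    show pt Γ c (lq Γ q hq ≫ _) = pt Γ c l
    rw [pt_top, lq_pt, Category.id_comp]
    rfl

theorem dTo_comp {c d : (Stk.sieveCat R).obj} (m : c ⟶ d) (l : T ⟶ (A Γ c).XT) (h : l ≫ u_ Γ c = q)
    (a : T ⟶ (A Γ d).XT) (ha : l ≫ (mp Γ m).top = a) (h' : a ≫ u_ Γ d = q) :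
    dTo Γ q hq c l h ≫ m = dTo Γ q hq d a h' := by
  subst ha
  refine ObjectProperty.hom_ext _ (Over.OverMorphism.ext (Over.OverMorphism.ext ?_))
  show pt Γ c l ≫ m.hom.left.left = pt Γ d (l ≫ (mp Γ m).top)
  rw [pt_top]

end

end Groth.L09.ModStack
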