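import Groth.Agent.L09.ModStack.Glue
import Groth.Agent.L09.ModStack.Sieve

/-!
# Gluing morphisms of categories of modules on base changes along fpqc covers
-/

set_option autoImplicit false
set_option linter.style.haveILetI false
set_option backward.isDefEq.respectTransparency false
set_option backward.isDefEq.respectTransparency.types false

universe u

open CategoryTheory CategoryTheory.Limits AlgebraicGeometry Opposite

noncomputable section

namespace Groth.L09.ModStack

open Groth.Agent.S17417 (pullHom existsUnique_lift)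

variable {X S : Scheme.{u}} {f : X ⟶ S}

/-- The base change along a map of schemes to the base. -/
abbrev bc (x : ModSt.Obj f) {T : Scheme.{u}} (h : T ⟶ x.base.left) : ModSt.Obj f :=
  Groth.Agent.S17417.pull x (Over.homMk h : Over.mk (h ≫ x.base.hom) ⟶ x.base)

/-- The morphism from the base change. -/
abbrev bcHom (x : ModSt.Obj f) {T : Scheme.{u}} (h : T ⟶ x.base.left) : bc x h ⟶ x :=
  pullHom x (Over.homMk h : Over.mk (h ≫ x.base.hom) ⟶ x.base)

theorem cover_bc (x : ModSt.Obj f) {κ : Type u} {W : κ → Scheme.{u}} (g : ∀ k, W k ⟶ x.base.left)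
    (hg : Presieve.ofArrows W g ∈ Scheme.fpqcPrecoverage x.base.left) :
    Presieve.ofArrows (fun k => (bc x (g k)).XT) (fun k => (bcHom x (g k)).top) ∈
      Scheme.fpqcPrecoverage x.XT :=
  Precoverage.mem_coverings_of_isPullback g hg x.q _ _ fun _ => IsPullback.of_hasPullback _ _

variable {P : ModSt.Obj f → Prop} (hq : ∀ A : ModSt.Obj f, P A → Coh.IsQCoh A.E)
  (hpull : ∀ (A : ModSt.Obj f) (T : Scheme.{u}) (h : T ⟶ A.base.left), P A → P (bc A h))

include hq hpull in
/-- Morphisms glue along fpqc covering sieves. -/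
theorem homGlue : Groth.L09.StackBG.HomGlue (AlgSt.fullSub (ModSt.Fam f) P) (Groth.L09.StackBG.Jq S) := by
  intro x y b R hR T hTb hTn
  obtain ⟨κ, W, g, hg, hk⟩ := Groth.L09.StackBG.exists_small_cover hR
  haveI := hq _ x.property
  haveI := hq _ y.property
  have hcov := cover_bc x.obj g hg
  let zz : ∀ k, (AlgSt.fullSub (ModSt.Fam f) P).obj := fun k => ⟨bc x.obj (g k), hpull _ _ _ x.property⟩
  let πk : ∀ k, zz k ⟶ x := fun k => ObjectProperty.homMk (bcHom x.obj (g k))
  let Tk : ∀ k, bc x.obj (g k) ⟶ y.obj := fun k => (T (πk k) (hk k)).hom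
  obtain ⟨h, hhb, hh⟩ := exists_glue (x := x.obj) (y := y.obj) b (fun k => bcHom x.obj (g k)) Tk
    (fun k => hTb (πk k) (hk k)) hcov fun U q r i j a a' w w' v v' => by
      let oo : (AlgSt.fullSub (ModSt.Fam f) P).obj := ⟨bc x.obj (q ≫ x.obj.q), hpull _ _ _ x.property⟩
      let πo : oo ⟶ x := ObjectProperty.homMk (bcHom x.obj (q ≫ x.obj.q))
      let c : U ⟶ pullback x.obj.q (q ≫ x.obj.q) := pullback.lift q (𝟙 U) (Category.id_comp _).symm
      have hlift : ∀ (k : κ) (l : U ⟶ (bc x.obj (g k)).XT), l ≫ (bcHom x.obj (g k)).top = q →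
          ∃ (n : oo ⟶ zz k), n ≫ πk k = πo ∧ c ≫ n.hom.top = l := by
        intro k l hl
        have hbase : (l ≫ (bc x.obj (g k)).q) ≫ g k = q ≫ x.obj.q := by
          rw [← hl, Category.assoc, Category.assoc]
          exact congrArg (l ≫ ·) (bcHom x.obj (g k)).w_q.symm
        obtain ⟨n, ⟨hn, hn'⟩, -⟩ := existsUnique_lift (bcHom x.obj (g k)) (bcHom x.obj (q ≫ x.obj.q))
          (Over.homMk (l ≫ (bc x.obj (g k)).q) (by
            show (l ≫ (bc x.obj (g k)).q) ≫ g k ≫ x.obj.base.hom = (q ≫ x.obj.q) ≫ x.obj.base.hom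
            rw [← Category.assoc, hbase]))
          (Over.OverMorphism.ext hbase)
        refine ⟨ObjectProperty.homMk n, InducedCategory.hom_ext hn', ?_⟩
        refine (bcHom x.obj (g k)).isPullback_top.hom_ext ?_ ?_
        · refine (Category.assoc _ _ _).trans ((congrArg (c ≫ ·) (congrArg ModSt.Obj.Hom.top hn')).trans ?_)
          exact (pullback.lift_fst _ _ _).trans hl.symm
        · refine (Category.assoc _ _ _).trans ((congrArg (c ≫ ·) n.w_q).trans ?_)
          rw [hn]
          exact (Category.assoc _ _ _).symm.trans ((congrArg (· ≫ _) (pullback.lift_snd _ _ _)).trans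
            (Category.id_comp _))
      obtain ⟨n, hn, hcn⟩ := hlift i a w
      obtain ⟨n', hn', hcn'⟩ := hlift j a' v
      have hRo : R ((AlgSt.fullSub (ModSt.Fam f) P).p.map πo) := by
        rw [← hn, Functor.map_comp]
        exact R.downward_closed (hk i) _
      refine G_eq (fun k => bcHom x.obj (g k)) Tk (i := i) (j := j) w w' v v' n.hom n'.hom c hcn hcn'
        (congrArg InducedCategory.Hom.hom (hn.trans hn'.symm)) ?_
      exact congrArg InducedCategory.Hom.hom
        ((hTn n (πk i) πo (hk i) hRo hn).trans (hTn n' (πk j) πo (hk j) hRo hn').symm)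
  refine ⟨ObjectProperty.homMk h, ⟨hhb, fun z π hπ => InducedCategory.hom_ext ?_⟩, ?_⟩
  · -- agreement on all objects over the sieve
    haveI := hq _ z.property
    let v : ∀ k, pullback π.hom.base.left (g k) ⟶ z.obj.base.left := fun k => pullback.fst _ _
    have hv : Presieve.ofArrows _ v ∈ Scheme.fpqcPrecoverage z.obj.base.left :=
      Precoverage.mem_coverings_of_isPullback g hg π.hom.base.left _ _ fun k => IsPullback.of_hasPullback _ _
    refine hom_ext_cover (fun k => bcHom z.obj (v k)) (cover_bc z.obj v hv)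
      ((congrArg (π.hom.base ≫ ·) hhb).trans (hTb π hπ).symm) fun k => ?_
    let z' : (AlgSt.fullSub (ModSt.Fam f) P).obj := ⟨bc z.obj (v k), hpull _ _ _ z.property⟩
    let n : z' ⟶ z := ObjectProperty.homMk (bcHom z.obj (v k))
    obtain ⟨n', ⟨-, hn'⟩, -⟩ := existsUnique_lift (bcHom x.obj (g k)) (n ≫ π).hom
      (Over.homMk (pullback.snd π.hom.base.left (g k)) (by
        show pullback.snd _ _ ≫ g k ≫ x.obj.base.hom = pullback.fst _ _ ≫ z.obj.base.hom
        rw [← pullback.condition_assoc, Over.w]))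
      (Over.OverMorphism.ext pullback.condition.symm)
    have hR' : R ((AlgSt.fullSub (ModSt.Fam f) P).p.map (n ≫ π)) := by
      rw [Functor.map_comp]
      exact R.downward_closed hπ _
    have h1 := hTn n π (n ≫ π) hπ hR' rfl
    have h2 := hTn (ObjectProperty.homMk n' : z' ⟶ zz k) (πk k) (n ≫ π) (hk k) hR' (InducedCategory.hom_ext hn')
    refine Eq.trans ?_ (congrArg InducedCategory.Hom.hom (h2.trans h1.symm))
    show bcHom z.obj (v k) ≫ π.hom ≫ h = n' ≫ Tk k
    rw [← Category.assoc, ← hh k, ← Category.assoc]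
    exact congrArg (· ≫ h) hn'.symm
  · rintro h' ⟨hb', hh'⟩
    refine InducedCategory.hom_ext (hom_ext_cover (fun k => bcHom x.obj (g k)) hcov (hb'.trans hhb.symm) fun k => ?_)
    exact (congrArg InducedCategory.Hom.hom (hh' (πk k) (hk k))).trans (hh k).symm

end Groth.L09.ModStack
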