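import Groth.Agent.L09.ModStack.Objects
import Groth.Agent.L09.ModStack.Homs
import Groth.Agent.L09.ModStack.Descent
import Groth.Agent.L22.Inter.FlatTwist

/-!
# Stacks of flat finitely presented modules on base changes
-/

set_option autoImplicit false
set_option linter.style.haveILetI false
set_option backward.isDefEq.respectTransparency false
set_option backward.isDefEq.respectTransparency.types false

universe u

open CategoryTheory CategoryTheory.Limits AlgebraicGeometry Opposite

noncomputable section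

namespace Groth.L09.ModStack

open Groth.L27.Assoc (Mo)

variable {X S : Scheme.{u}} {f : X ⟶ S}

/-- A property of objects is fpqc local on the base. -/
def DescendsFpqc (P : ModSt.Obj f → Prop) : Prop :=
  ∀ (x : ModSt.Obj f), Coh.IsQCoh x.E → ∀ (κ : Type u) (z : κ → ModSt.Obj f) (τ : ∀ k, z k ⟶ x),
    Presieve.ofArrows (fun k => (z k).base.left) (fun k => (τ k).base.left) ∈
      Scheme.fpqcPrecoverage x.base.left → (∀ k, P (z k)) → P x

/-- A category of modules on base changes with fpqc local condition is an fpqc stack. -/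
theorem isStack_fullSub {P : ModSt.Obj f → Prop} (hq : ∀ A : ModSt.Obj f, P A → Coh.IsQCoh A.E)
    (hpull : ∀ (A : ModSt.Obj f) (T : Scheme.{u}) (h : T ⟶ A.base.left), P A → P (bc A h))
    (hfib : FibCat.IsFibGrpd (AlgSt.fullSub (ModSt.Fam f) P).p) (hdesc : DescendsFpqc P) :
    Stk.IsStack (Groth.L09.StackBG.Jq S) (AlgSt.fullSub (ModSt.Fam f) P) := by
  refine Groth.L09.StackBG.isStack_of_glue hfib (homGlue hq hpull) fun U R hR Γ => ?_
  obtain ⟨κ, W, g, hg, hk⟩ := Groth.L09.StackBG.exists_small_cover hR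
  haveI : ∀ a : (Stk.sieveCat R).obj, Coh.IsQCoh (A Γ a).E := fun a => hq _ (Γ.obj a).property
  obtain ⟨x, e, τ, hxq, hτb, hτ⟩ := exists_cocone Γ g hk hg
  subst e
  simp only [eqToHom_refl, Category.comp_id] at hτb
  haveI : ∀ k, IsIso (eb Γ (ak g hk k)).left := fun k =>
    inferInstanceAs (IsIso ((Over.forget S).map (eb Γ (ak g hk k))))
  have hcov : Presieve.ofArrows (fun k => (A Γ (ak g hk k)).base.left) (fun k => (τ (ak g hk k)).base.left) ∈
      Scheme.fpqcPrecoverage x.base.left := by
    refine mem_fpqc_of_squares (fun k => (eb Γ (ak g hk k)).left) hg (Q := 𝟙 x.base.left)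
      (q := fun k => 𝟙 _) fun k => ?_
    have hl : (τ (ak g hk k)).base.left = (eb Γ (ak g hk k)).left ≫ g k :=
      congrArg CommaMorphism.left (hτb (ak g hk k))
    exact IsPullback.of_vert_isIso ⟨by rw [hl, Category.id_comp, Category.comp_id]⟩
  refine ⟨⟨x, hdesc x hxq κ _ (fun k => τ (ak g hk k)) hcov fun k => (Γ.obj (ak g hk k)).property⟩, rfl,
    fun a => ObjectProperty.homMk (τ a), fun a => ?_, fun {a b} φ => InducedCategory.hom_ext (hτ φ)⟩
  rw [eqToHom_refl]
  exact (Category.comp_id _).trans (hτb a)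

theorem isQCoh_of_isCohObj (A : ModSt.Obj f) (h : ModSt.IsCohObj A) : Coh.IsQCoh A.E :=
  Groth.L05.Prufer.isQCoh_of_isFP h.2

theorem isCohObj_bc (A : ModSt.Obj f) (T : Scheme.{u}) (h : T ⟶ A.base.left) (hA : ModSt.IsCohObj A) :
    ModSt.IsCohObj (bc A h) :=
  ⟨Groth.L17.FlatPair.isFlatOver_pullback (IsPullback.of_hasPullback _ _) hA.1,
    Groth.Agent.S17417.isFP_pullback _ _ hA.2⟩

theorem descendsFpqc_isCohObj : DescendsFpqc (ModSt.IsCohObj (f := f)) := by
  intro x hx κ z τ hcov hz
  haveI : Coh.IsQCoh x.E := hx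
  have hc : Presieve.ofArrows (fun k => (z k).XT) (fun k => (τ k).top) ∈ Scheme.fpqcPrecoverage x.XT :=
    Precoverage.mem_coverings_of_isPullback _ hcov x.q _ _ fun k => (τ k).isPullback_top
  let e : ∀ k, Mo x.E (τ k).top ≅ (z k).E := fun k => asIso (tr (τ k))
  refine ⟨isFlatOver_descent hc (Groth.L19.flat_of_mem_fpqc hcov) (fun k => (τ k).w_q) x.E fun k => ?_,
    isFP_descent hc x.E fun k => ?_⟩
  · exact Groth.L29.DC.RelBC.isFlatOver_of_iso _ (e k).symm (hz k).1
  · exact Groth.L22.Inter.FlatTwist.isFP_of_iso (e k).symm (hz k).2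

/-- Flat finitely presented modules on base changes form an fpqc stack. -/
theorem isStack_coh_fpqc : Stk.IsStack (Groth.L09.StackBG.Jq S) (ModSt.Coh f) :=
  isStack_fullSub isQCoh_of_isCohObj isCohObj_bc Groth.Agent.S17417.isFibGrpd_coh descendsFpqc_isCohObj

end Groth.L09.ModStack
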