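import Groth.Agent.L09.ModStack.Sieve
import Groth.Agent.L09.ModStack.Glue

/-!
# The descent datum of a functor from a sieve
-/

set_option autoImplicit false
set_option backward.isDefEq.respectTransparency false
set_option backward.isDefEq.respectTransparency.types false

universe u

open CategoryTheory CategoryTheory.Limits AlgebraicGeometry Opposite

noncomputable section

namespace Groth.L09.ModStack

open Groth.L27.Assoc (Mo θ)

variable {X S : Scheme.{u}} {f : X ⟶ S} {P : ModSt.Obj f → Prop} {U : Over S} {R : Sieve U}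
  (Γ : Stk.sieveCat R ⥤ᵇ AlgSt.fullSub (ModSt.Fam f) P)

variable {T T' : Scheme.{u}}

/-- The transition between the values at two sieve objects at a point over both. -/
def Dh (q : T ⟶ pullback f U.hom) (c d : (Stk.sieveCat R).obj) (a : T ⟶ (A Γ c).XT) (b : T ⟶ (A Γ d).XT)
    (ha : a ≫ u_ Γ c = q) (hb : b ≫ u_ Γ d = q) : Mo (A Γ c).E a ≅ Mo (A Γ d).E b :=
  kap (mp Γ (dTo Γ q (mem_of_point Γ q c a ha) c a ha)) (lq Γ q (mem_of_point Γ q c a ha)) a (lq_top Γ q _ c a ha) ≪≫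
    (kap (mp Γ (dTo Γ q (mem_of_point Γ q c a ha) d b hb)) (lq Γ q (mem_of_point Γ q c a ha)) b
      (lq_top Γ q _ d b hb)).symm

/-- The transition can be computed at any common refinement. -/
theorem Dh_eq (q : T ⟶ pullback f U.hom) {c d e : (Stk.sieveCat R).obj} (a : T ⟶ (A Γ c).XT)
    (b : T ⟶ (A Γ d).XT) (ha : a ≫ u_ Γ c = q) (hb : b ≫ u_ Γ d = q) (m : e ⟶ c) (m' : e ⟶ d)
    (l : T ⟶ (A Γ e).XT) (hm : l ≫ (mp Γ m).top = a) (hm' : l ≫ (mp Γ m').top = b) :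
    Dh Γ q c d a b ha hb = kap (mp Γ m) l a hm ≪≫ (kap (mp Γ m') l b hm').symm := by
  have hl : l ≫ u_ Γ e = q := by rw [← ha, ← hm, Category.assoc, top_u]
  have hR := mem_of_point Γ q c a ha
  have key : ∀ {g : (Stk.sieveCat R).obj} (n : e ⟶ g) (p : T ⟶ (A Γ g).XT) (hp : p ≫ u_ Γ g = q)
      (hn : l ≫ (mp Γ n).top = p), kap (mp Γ (dTo Γ q hR g p hp)) (lq Γ q hR) p (lq_top Γ q _ g p hp) =
        kap (mp Γ n) l p hn ≪≫ kap (mp Γ (dTo Γ q hR e l hl)) (lq Γ q hR) l (lq_top Γ q _ e l hl) := by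
    intro g n p hp hn
    have e1 : mp Γ (dTo Γ q hR e l hl) ≫ mp Γ n = mp Γ (dTo Γ q hR g p hp) := by
      rw [← mp_comp, dTo_comp Γ q hR n l hl p hn hp]
    rw [kap_comp (mp Γ (dTo Γ q hR e l hl)) (mp Γ n) (lq Γ q hR) l p (lq_top Γ q _ e l hl) hn
      (by rw [e1]; exact lq_top Γ q _ g p hp)]
    exact (kap_congr e1 _ _ _ _).symm
  rw [Dh, key m a ha hm, key m' b hb hm']
  simp [Iso.trans_assoc]

theorem Dh_natural (g : T' ⟶ T) (q : T ⟶ pullback f U.hom) (q' : T' ⟶ pullback f U.hom) (hq : g ≫ q = q')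
    (c d : (Stk.sieveCat R).obj) (a : T ⟶ (A Γ c).XT) (b : T ⟶ (A Γ d).XT)
    (ha : a ≫ u_ Γ c = q) (hb : b ≫ u_ Γ d = q) (a' : T' ⟶ (A Γ c).XT) (b' : T' ⟶ (A Γ d).XT)
    (hga : g ≫ a = a') (hgb : g ≫ b = b') (ha' : a' ≫ u_ Γ c = q') (hb' : b' ≫ u_ Γ d = q') :
    (Scheme.Modules.pullback g).map (Dh Γ q c d a b ha hb).hom ≫ θ (A Γ d).E g b b' hgb =
      θ (A Γ c).E g a a' hga ≫ (Dh Γ q' c d a' b' ha' hb').hom := by
  have hR := mem_of_point Γ q c a ha
  have hla : (g ≫ lq Γ q hR) ≫ (mp Γ (dTo Γ q hR c a ha)).top = a' := by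
    rw [Category.assoc, lq_top, hga]
  have hlb : (g ≫ lq Γ q hR) ≫ (mp Γ (dTo Γ q hR d b hb)).top = b' := by
    rw [Category.assoc, lq_top, hgb]
  rw [Dh_eq Γ q' a' b' ha' hb' (dTo Γ q hR c a ha) (dTo Γ q hR d b hb) (g ≫ lq Γ q hR) hla hlb]
  have h1 := kap_natural (mp Γ (dTo Γ q hR c a ha)) g (lq Γ q hR) a (g ≫ lq Γ q hR) a'
    (lq_top Γ q _ c a ha) hla rfl hga
  have h2 := kap_natural (mp Γ (dTo Γ q hR d b hb)) g (lq Γ q hR) b (g ≫ lq Γ q hR) b'
    (lq_top Γ q _ d b hb) hlb rfl hgb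
  simp only [Dh, Iso.trans_hom, Iso.symm_hom, Functor.map_comp, Category.assoc]
  rw [← Category.assoc (θ (A Γ c).E g a a' hga), ← h1, Category.assoc]
  congr 1
  rw [← cancel_mono (kap (mp Γ (dTo Γ q hR d b hb)) (g ≫ lq Γ q hR) b' hlb).hom, Category.assoc,
    Category.assoc, Iso.inv_hom_id, Category.comp_id, ← h2, ← Category.assoc, ← Functor.map_comp,
    Iso.inv_hom_id, CategoryTheory.Functor.map_id, Category.id_comp]

variable {κ : Type u} (a : κ → (Stk.sieveCat R).obj)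

/-- The descent datum on a family of sieve objects. -/
def datum : Desc.modPF.{u}.DescentData (fun k => u_ Γ (a k)) where
  obj k := (A Γ (a k)).E
  hom Y q i j b b' hb hb' := (Dh Γ q (a i) (a j) b b' hb hb').hom
  hom_self Y q i b hb := by
    simp only [Dh, Iso.self_symm_id]
    rfl
  hom_comp Y q i j k b b' b'' hb hb' hb'' := by
    simp [Dh]
  pullHom_hom Y' Y g q q' hq i j b b' hb hb' c c' hc hc' := by
    have e1 : b.op.toLoc ≫ g.op.toLoc = c.op.toLoc := by rw [← Quiver.Hom.comp_toLoc, ← op_comp, hc]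
    have e2 : b'.op.toLoc ≫ g.op.toLoc = c'.op.toLoc := by rw [← Quiver.Hom.comp_toLoc, ← op_comp, hc']
    show (Desc.modPF.mapComp' b.op.toLoc g.op.toLoc c.op.toLoc e1).hom.toNatTrans.app _ ≫
      (Scheme.Modules.pullback g).map (Dh Γ q (a i) (a j) b b' hb hb').hom ≫
      (Desc.modPF.mapComp' b'.op.toLoc g.op.toLoc c'.op.toLoc e2).inv.toNatTrans.app _ = _
    rw [Groth.L19.QCohFpqc.mc_inv _ g b' c' hc' e2]
    refine (congrArg (_ ≫ ·) (Dh_natural Γ g q q' hq (a i) (a j) b b' hb hb' c c' hc hc'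
      (by rw [← hc, Category.assoc, hb, hq]) (by rw [← hc', Category.assoc, hb', hq]))).trans ?_
    rw [← Category.assoc]
    refine (congrArg (· ≫ _) (Groth.L19.QCohFpqc.mc_hom _ g b c hc e1)).trans ?_
    exact Category.id_comp _

end Groth.L09.ModStack
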