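import Groth.Agent.L09.ModStack.Datum

/-!
# Gluing objects of categories of modules on base changes along fpqc covers
-/

set_option autoImplicit false
set_option linter.style.haveILetI false
set_option backward.isDefEq.respectTransparency false
set_option backward.isDefEq.respectTransparency.types false

universe u

open CategoryTheory CategoryTheory.Limits AlgebraicGeometry Opposite

noncomputable section

namespace Groth.L09.ModStack

open Groth.L27.Assoc (Mo θ)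
open Groth.L19.QCohFpqc (exists_descended)

theorem hom_ext_tr' {X S : Scheme.{u}} {f : X ⟶ S} {A B : ModSt.Obj f} {φ ψ : A ⟶ B} (hb : φ.base = ψ.base)
    (a : A.XT ⟶ B.XT) (w : 𝟙 _ ≫ φ.top = a) (w' : 𝟙 _ ≫ ψ.top = a)
    (h : (kap φ (𝟙 _) a w).hom = (kap ψ (𝟙 _) a w').hom) : φ = ψ := by
  obtain rfl : a = φ.top := w.symm.trans (Category.id_comp _)
  exact hom_ext_tr hb (top_ext hb) h

variable {X S : Scheme.{u}} {f : X ⟶ S} {P : ModSt.Obj f → Prop} {U : Over S} {R : Sieve U}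
  (Γ : Stk.sieveCat R ⥤ᵇ AlgSt.fullSub (ModSt.Fam f) P)

variable {κ : Type u} {W : κ → Scheme.{u}} (g : ∀ k, W k ⟶ U.left)
  (hk : ∀ k, R (Over.homMk (g k) : Over.mk (g k ≫ U.hom) ⟶ U))

/-- The sieve objects of a cover. -/
abbrev ak (k : κ) : (Stk.sieveCat R).obj := ⟨Over.mk (Over.homMk (g k) : Over.mk (g k ≫ U.hom) ⟶ U), hk k⟩

variable (a : (Stk.sieveCat R).obj) (k : κ)

/-- The pulled back piece of the base. -/
abbrev cBase : Over.mk (pullback.fst (β Γ a).left (g k) ≫ (A Γ a).base.hom) ⟶ (A Γ a).base :=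
  Over.homMk (pullback.fst (β Γ a).left (g k))

/-- The sieve objects of the pulled back cover. -/
abbrev cObj : (Stk.sieveCat R).obj :=
  ⟨Over.mk (cBase Γ g a k ≫ β Γ a), by
    show R (cBase Γ g a k ≫ eb Γ a ≫ a.obj.hom)
    rw [← Category.assoc]
    exact R.downward_closed a.property _⟩

/-- The first projection. -/
def nA : cObj Γ g a k ⟶ a :=
  ObjectProperty.homMk (Over.homMk (cBase Γ g a k ≫ eb Γ a) (Category.assoc _ _ _))

/-- The second projection. -/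
def nK : cObj Γ g a k ⟶ ak g hk k :=
  ObjectProperty.homMk (Over.homMk
    (Over.homMk (pullback.snd (β Γ a).left (g k)) (by
      show pullback.snd (β Γ a).left (g k) ≫ g k ≫ U.hom = pullback.fst (β Γ a).left (g k) ≫ (A Γ a).base.hom
      rw [← pullback.condition_assoc, Over.w]))
    (by
      ext
      exact pullback.condition.symm))

theorem nA_base : (mp Γ (nA Γ g a k)).base = eb Γ (cObj Γ g a k) ≫ cBase Γ g a k := by
  rw [← cancel_mono (eb Γ a), mp_eb, Category.assoc]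
  rfl

theorem exists_lift_cObj {e : (Stk.sieveCat R).obj} (m : e ⟶ a) (m' : e ⟶ ak g hk k) :
    ∃ d : e ⟶ cObj Γ g a k, d ≫ nA Γ g a k = m ∧ d ≫ nK Γ g hk a k = m' := by
  let n : e.obj.left ⟶ (A Γ a).base := m.hom.left ≫ eqToHom (Γ.w_obj a).symm
  have hn : n ≫ eb Γ a = m.hom.left := by simp [n, eb]
  have hw : n.left ≫ (β Γ a).left = m'.hom.left.left ≫ g k := by
    rw [β, ← Over.comp_left, ← Category.assoc, hn, Over.w]
    exact (congrArg CommaMorphism.left (Over.w m'.hom)).symm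
  let l : e.obj.left ⟶ (cObj Γ g a k).obj.left := Over.homMk (pullback.lift n.left m'.hom.left.left hw) (by
    show pullback.lift n.left m'.hom.left.left hw ≫ pullback.fst _ _ ≫ (A Γ a).base.hom = _
    rw [pullback.lift_fst_assoc, Over.w])
  have hl : l ≫ cBase Γ g a k = n := Over.OverMorphism.ext (pullback.lift_fst _ _ _)
  refine ⟨ObjectProperty.homMk (Over.homMk l ?_), ?_, ?_⟩
  · show l ≫ cBase Γ g a k ≫ β Γ a = _
    rw [← Category.assoc, hl, β, ← Category.assoc, hn, Over.w]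
  · refine ObjectProperty.hom_ext _ (Over.OverMorphism.ext ?_)
    show l ≫ cBase Γ g a k ≫ eb Γ a = m.hom.left
    rw [← Category.assoc, hl, hn]
  · exact ObjectProperty.hom_ext _ (Over.OverMorphism.ext (Over.OverMorphism.ext (pullback.lift_snd _ _ _)))

variable (hg : Presieve.ofArrows W g ∈ Scheme.fpqcPrecoverage U.left)

include hg in
theorem cover_cObj :
    Presieve.ofArrows (fun k => (A Γ (cObj Γ g a k)).XT) (fun k => (mp Γ (nA Γ g a k)).top) ∈
      Scheme.fpqcPrecoverage (A Γ a).XT := by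
  have h1 : Presieve.ofArrows (fun k => pullback (β Γ a).left (g k)) (fun k => pullback.fst (β Γ a).left (g k)) ∈
      Scheme.fpqcPrecoverage (A Γ a).base.left :=
    Precoverage.mem_coverings_of_isPullback g hg (β Γ a).left _ _ fun k => IsPullback.of_hasPullback _ _
  haveI : ∀ k, IsIso (eb Γ (cObj Γ g a k)).left := fun k =>
    inferInstanceAs (IsIso ((Over.forget S).map (eb Γ (cObj Γ g a k))))
  refine mem_fpqc_of_squares (fun k => (eb Γ (cObj Γ g a k)).left) h1 (Q := (A Γ a).q)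
    (q := fun k => (A Γ (cObj Γ g a k)).q) fun k => ?_
  have h := (mp Γ (nA Γ g a k)).isPullback_top
  rw [nA_base] at h
  exact h

theorem cover_ak :
    Presieve.ofArrows W g ∈ Scheme.fpqcPrecoverage U.left →
    Presieve.ofArrows (fun k => (A Γ (ak g hk k)).XT) (fun k => u_ Γ (ak g hk k)) ∈
      Scheme.fpqcPrecoverage (pullback f U.hom) := by
  intro hg
  haveI : ∀ k, IsIso (eb Γ (ak g hk k)).left := fun k =>
    inferInstanceAs (IsIso ((Over.forget S).map (eb Γ (ak g hk k))))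
  refine mem_fpqc_of_squares (fun k => (eb Γ (ak g hk k)).left) hg (Q := pullback.snd f U.hom)
    (q := fun k => (A Γ (ak g hk k)).q) fun k => isPullback_u Γ (ak g hk k)

include hg in
/-- Compatible morphisms from the pieces of a cover extend to a cocone. -/
theorem exists_cocone_of_compat [∀ a : (Stk.sieveCat R).obj, Coh.IsQCoh (A Γ a).E] (x : ModSt.Obj f)
    [Coh.IsQCoh x.E] (bU : x.base ⟶ U) [IsIso bU] (τ₀ : ∀ k, A Γ (ak g hk k) ⟶ x)
    (hτ₀ : ∀ k, (τ₀ k).base ≫ bU = β Γ (ak g hk k))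
    (compat : ∀ {c : (Stk.sieveCat R).obj} {i j : κ} (m : c ⟶ ak g hk i) (m' : c ⟶ ak g hk j),
      mp Γ m ≫ τ₀ i = mp Γ m' ≫ τ₀ j) :
    ∃ τ : ∀ a : (Stk.sieveCat R).obj, A Γ a ⟶ x, (∀ a, (τ a).base ≫ bU = β Γ a) ∧
      (∀ {a b : (Stk.sieveCat R).obj} (φ : a ⟶ b), mp Γ φ ≫ τ b = τ a) := by
  have hex : ∀ a : (Stk.sieveCat R).obj, ∃ τa : A Γ a ⟶ x, τa.base = β Γ a ≫ inv bU ∧
      ∀ k, mp Γ (nA Γ g a k) ≫ τa = mp Γ (nK Γ g hk a k) ≫ τ₀ k := by
    intro a
    refine exists_glue (β Γ a ≫ inv bU) (fun k => mp Γ (nA Γ g a k)) (fun k => mp Γ (nK Γ g hk a k) ≫ τ₀ k)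
      (fun k => by
        show (mp Γ (nK Γ g hk a k)).base ≫ (τ₀ k).base = _
        rw [← cancel_mono bU, Category.assoc, hτ₀, mp_β, Category.assoc, Category.assoc, IsIso.inv_hom_id,
          Category.comp_id, mp_β]) (cover_cObj Γ g a hg)
      fun T q r i j l l' w w' v v' => ?_
    have hi : l ≫ u_ Γ (cObj Γ g a i) = q ≫ u_ Γ a := by rw [← top_u Γ (nA Γ g a i), reassoc_of% w]
    have hj : l' ≫ u_ Γ (cObj Γ g a j) = q ≫ u_ Γ a := by rw [← top_u Γ (nA Γ g a j), reassoc_of% v]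
    have hR := mem_of_point Γ (q ≫ u_ Γ a) a q rfl
    refine G_eq (fun k => mp Γ (nA Γ g a k)) (fun k => mp Γ (nK Γ g hk a k) ≫ τ₀ k) (i := i) (j := j)
      w w' v v' (o := A Γ (cq (q ≫ u_ Γ a) hR)) (mp Γ (dTo Γ _ hR (cObj Γ g a i) l hi)) (mp Γ (dTo Γ _ hR (cObj Γ g a j) l' hj))
      (lq Γ _ hR) (lq_top Γ _ _ (cObj Γ g a i) l hi) (lq_top Γ _ _ (cObj Γ g a j) l' hj) ?_ ?_
    · rw [← mp_comp, ← mp_comp, dTo_comp Γ _ hR (nA Γ g a i) l hi q w rfl,
        dTo_comp Γ _ hR (nA Γ g a j) l' hj q v rfl]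
    · rw [← Category.assoc, ← mp_comp, ← Category.assoc, ← mp_comp]
      exact compat _ _
  choose τ hτb hτ using hex
  have hτ' : ∀ {c a : (Stk.sieveCat R).obj} {k : κ} (m : c ⟶ a) (m' : c ⟶ ak g hk k),
      mp Γ m ≫ τ a = mp Γ m' ≫ τ₀ k := by
    intro c a k m m'
    refine hom_ext_cover (fun l => mp Γ (nA Γ g c l)) (cover_cObj Γ g c hg) ?_ fun l => ?_
    · show (mp Γ m).base ≫ (τ a).base = (mp Γ m').base ≫ (τ₀ k).base
      rw [hτb, ← cancel_mono bU, Category.assoc (mp Γ m).base, Category.assoc (β Γ a), IsIso.inv_hom_id,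
        Category.comp_id (β Γ a), Category.assoc (mp Γ m').base, hτ₀, mp_β, mp_β]
    · obtain ⟨d, hd, hd'⟩ := exists_lift_cObj Γ g hk a l (nA Γ g c l ≫ m) (nK Γ g hk c l)
      rw [← Category.assoc, ← Category.assoc, ← mp_comp, ← mp_comp]
      conv_lhs => rw [← hd, mp_comp, Category.assoc, hτ, ← Category.assoc, ← mp_comp, hd']
      exact compat _ _
  refine ⟨τ, fun a => ?_, fun {a b} φ => ?_⟩
  · rw [hτb, Category.assoc, IsIso.inv_hom_id, Category.comp_id]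
  · refine hom_ext_cover (fun l => mp Γ (nA Γ g a l)) (cover_cObj Γ g a hg) ?_ fun l => ?_
    · show (mp Γ φ).base ≫ (τ b).base = (τ a).base
      rw [hτb, hτb, ← Category.assoc, mp_β]
    · rw [← Category.assoc, ← mp_comp, hτ' (nA Γ g a l ≫ φ) (nK Γ g hk a l)]
      exact (hτ a l).symm


/-- The object on the base change over `U` given by a module. -/
abbrev objOf (f : X ⟶ S) (U : Over S) (M : (pullback f U.hom).Modules) : ModSt.Obj f :=
  ⟨U, pullback f U.hom, pullback.fst f U.hom, pullback.snd f U.hom, IsPullback.of_hasPullback f U.hom, M⟩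

/-- The morphism from a piece of the cover to the descended object. -/
def tauK (M : (pullback f U.hom).Modules) (ψ : Mo M (u_ Γ (ak g hk k)) ≅ (A Γ (ak g hk k)).E) :
    A Γ (ak g hk k) ⟶ objOf f U M where
  base := β Γ (ak g hk k)
  top := u_ Γ (ak g hk k)
  w_p := u_fst Γ _
  w_q := u_snd Γ _
  c := (Scheme.Modules.pullbackPushforwardAdjunction (u_ Γ (ak g hk k))).homEquiv M _ ψ.hom
  cart := @isCart_homEquiv _ _ (u_ Γ (ak g hk k)) _ _ ψ.hom (Iso.isIso_hom ψ)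

theorem tauK_base (M : (pullback f U.hom).Modules) (ψ : Mo M (u_ Γ (ak g hk k)) ≅ (A Γ (ak g hk k)).E) :
    (tauK Γ g hk k M ψ).base = β Γ (ak g hk k) := rfl

theorem kap_tauK (M : (pullback f U.hom).Modules) (ψ : Mo M (u_ Γ (ak g hk k)) ≅ (A Γ (ak g hk k)).E)
    {T : Scheme.{u}} (l : T ⟶ (A Γ (ak g hk k)).XT) (q : T ⟶ pullback f U.hom) (w : l ≫ u_ Γ (ak g hk k) = q) :
    (kap (tauK Γ g hk k M ψ) l q w).hom =
      (θi M l (u_ Γ (ak g hk k)) q w).inv ≫ (Scheme.Modules.pullback l).map ψ.hom := by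
  rw [kap_hom]
  exact congrArg (fun z => (θi M l (u_ Γ (ak g hk k)) q w).inv ≫ (Scheme.Modules.pullback l).map z)
    (Equiv.symm_apply_apply _ _)

/-- The morphisms from the pieces of a cover to the descended object are compatible. -/
theorem compat_tauK (M : (pullback f U.hom).Modules)
    (ψ : ∀ k, Mo M (u_ Γ (ak g hk k)) ≅ (A Γ (ak g hk k)).E)
    (hψ : ∀ (T : Scheme.{u}) (q : T ⟶ pullback f U.hom) (i j : κ) (l : T ⟶ (A Γ (ak g hk i)).XT)
      (l' : T ⟶ (A Γ (ak g hk j)).XT) (hl : l ≫ u_ Γ (ak g hk i) = q) (hl' : l' ≫ u_ Γ (ak g hk j) = q),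
      (Scheme.Modules.pullback l).map (ψ i).hom ≫ (Dh Γ q (ak g hk i) (ak g hk j) l l' hl hl').hom =
        (θi M l (u_ Γ (ak g hk i)) q hl).hom ≫ (θi M l' (u_ Γ (ak g hk j)) q hl').inv ≫
          (Scheme.Modules.pullback l').map (ψ j).hom)
    {c : (Stk.sieveCat R).obj} {i j : κ} (m : c ⟶ ak g hk i) (m' : c ⟶ ak g hk j) :
    mp Γ m ≫ tauK Γ g hk i M (ψ i) = mp Γ m' ≫ tauK Γ g hk j M (ψ j) := by
  have hb : (mp Γ m ≫ tauK Γ g hk i M (ψ i)).base = (mp Γ m' ≫ tauK Γ g hk j M (ψ j)).base :=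
    (mp_β Γ m).trans (mp_β Γ m').symm
  have hi : (mp Γ m).top ≫ u_ Γ (ak g hk i) = u_ Γ c := top_u Γ m
  have hj : (mp Γ m').top ≫ u_ Γ (ak g hk j) = u_ Γ c := top_u Γ m'
  refine hom_ext_tr' hb (u_ Γ c) ((Category.id_comp _).trans hi) ((Category.id_comp _).trans hj) ?_
  rw [← kap_comp (mp Γ m) (tauK Γ g hk i M (ψ i)) (𝟙 _) (mp Γ m).top (u_ Γ c) (Category.id_comp _) hi
      ((Category.id_comp _).trans hi),
    ← kap_comp (mp Γ m') (tauK Γ g hk j M (ψ j)) (𝟙 _) (mp Γ m').top (u_ Γ c) (Category.id_comp _) hj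
      ((Category.id_comp _).trans hj), Iso.trans_hom, Iso.trans_hom, kap_tauK, kap_tauK]
  have h := hψ _ (u_ Γ c) i j (mp Γ m).top (mp Γ m').top hi hj
  rw [Dh_eq Γ (u_ Γ c) (mp Γ m).top (mp Γ m').top hi hj m m' (𝟙 _) (Category.id_comp _) (Category.id_comp _),
    Iso.trans_hom, Iso.symm_hom,
    ← cancel_mono (kap (mp Γ m') (𝟙 _) (mp Γ m').top (Category.id_comp _)).hom] at h
  simp only [Category.assoc, Iso.inv_hom_id, Category.comp_id] at h
  rw [← cancel_epi (θi M (mp Γ m).top (u_ Γ (ak g hk i)) (u_ Γ c) hi).hom]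
  simp only [Category.assoc]
  rw [Iso.hom_inv_id_assoc]
  exact h

/-- The components of an isomorphism with a canonical descent datum. -/
def compIso {ι : Type u} {Y : Scheme.{u}} {Z : ι → Scheme.{u}} {h : ∀ i, Z i ⟶ Y} {M : Y.Modules}
    {D : Desc.modPF.{u}.DescentData h} (e : (Desc.modPF.{u}.toDescentData h).obj M ≅ D) (i : ι) :
    Mo M (h i) ≅ Groth.L19.QCohFpqc.ob D i where
  hom := e.hom.hom i
  inv := e.inv.hom i
  hom_inv_id := congrArg (fun z => Pseudofunctor.DescentData.Hom.hom z i) e.hom_inv_id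
  inv_hom_id := congrArg (fun z => Pseudofunctor.DescentData.Hom.hom z i) e.inv_hom_id

theorem compIso_comm {ι : Type u} {Y : Scheme.{u}} {Z : ι → Scheme.{u}} {h : ∀ i, Z i ⟶ Y} {M : Y.Modules}
    {D : Desc.modPF.{u}.DescentData h} (e : (Desc.modPF.{u}.toDescentData h).obj M ≅ D) {T : Scheme.{u}}
    (q : T ⟶ Y) {i j : ι} (l : T ⟶ Z i) (l' : T ⟶ Z j) (hl : l ≫ h i = q) (hl' : l' ≫ h j = q) :
    (Scheme.Modules.pullback l).map (compIso e i).hom ≫ D.hom q l l' hl hl' =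
      (θi M l (h i) q hl).hom ≫ (θi M l' (h j) q hl').inv ≫
        (Scheme.Modules.pullback l').map (compIso e j).hom :=
  (e.hom.comm q l l' hl hl').trans
    ((congrArg (· ≫ _) ((Iso.eq_comp_inv _).2 (toDD_hom_θ (g := h) M q l l' hl hl'))).trans (Category.assoc _ _ _))

theorem datum_hom {T : Scheme.{u}} (q : T ⟶ pullback f U.hom) {i j : κ} (l : T ⟶ (A Γ (ak g hk i)).XT)
    (l' : T ⟶ (A Γ (ak g hk j)).XT) (hl : l ≫ u_ Γ (ak g hk i) = q) (hl' : l' ≫ u_ Γ (ak g hk j) = q) :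
    (datum Γ (ak g hk)).hom q l l' hl hl' = (Dh Γ q (ak g hk i) (ak g hk j) l l' hl hl').hom := rfl

include hg hk in
/-- A functor from a covering sieve has a cocone. -/
theorem exists_cocone [∀ a : (Stk.sieveCat R).obj, Coh.IsQCoh (A Γ a).E] :
    ∃ (x : ModSt.Obj f) (e : x.base = U) (τ : ∀ a : (Stk.sieveCat R).obj, A Γ a ⟶ x),
      Coh.IsQCoh x.E ∧ (∀ a, (τ a).base ≫ eqToHom e = β Γ a) ∧
      (∀ {a b : (Stk.sieveCat R).obj} (φ : a ⟶ b), mp Γ φ ≫ τ b = τ a) := by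
  have hcov := cover_ak Γ g hk hg
  haveI : ∀ i, Coh.IsQCoh (Groth.L19.QCohFpqc.ob (datum Γ (ak g hk)) i) := fun i =>
    inferInstanceAs (Coh.IsQCoh (A Γ (ak g hk i)).E)
  obtain ⟨M, hM, ⟨e⟩⟩ := exists_descended (D := datum Γ (ak g hk)) hcov
  haveI hMq : Coh.IsQCoh M := hM
  haveI hxq : Coh.IsQCoh (objOf f U M).E := hM
  obtain ⟨ψ, hψ⟩ : ∃ ψ : ∀ k, Mo M (u_ Γ (ak g hk k)) ≅ (A Γ (ak g hk k)).E,
      ∀ (T : Scheme.{u}) (q : T ⟶ pullback f U.hom) (i j : κ) (l : T ⟶ (A Γ (ak g hk i)).XT)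
      (l' : T ⟶ (A Γ (ak g hk j)).XT) (hl : l ≫ u_ Γ (ak g hk i) = q) (hl' : l' ≫ u_ Γ (ak g hk j) = q),
      (Scheme.Modules.pullback l).map (ψ i).hom ≫ (Dh Γ q (ak g hk i) (ak g hk j) l l' hl hl').hom =
        (θi M l (u_ Γ (ak g hk i)) q hl).hom ≫ (θi M l' (u_ Γ (ak g hk j)) q hl').inv ≫
          (Scheme.Modules.pullback l').map (ψ j).hom :=
    ⟨fun k => compIso e k, fun T q i j l l' hl hl' =>
      (congrArg (_ ≫ ·) (datum_hom Γ g hk q l l' hl hl').symm).trans (compIso_comm e q l l' hl hl')⟩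
  obtain ⟨τ, hτ₁, hτ₂⟩ := exists_cocone_of_compat Γ g hk hg (objOf f U M) (𝟙 U)
    (fun k => tauK Γ g hk k M (ψ k)) (fun k => Category.comp_id _) (compat_tauK Γ g hk M ψ hψ)
  exact ⟨objOf f U M, rfl, τ, hxq, hτ₁, hτ₂⟩

end Groth.L09.ModStack
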